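import Cfsg.Agent.H84.IMC.Tools
import Cfsg.Agent.H852.IMHS
import Cfsg.Agent.H287.Blk.HS

/-!
# `IMC` for `HS` (helper84, S4526)
-/

set_option autoImplicit false
open Cfsg

namespace Cfsg.Agent.H84.IMC.HS

open Cfsg.Agent.H33 Cfsg.Agent.H852.IMPerm Cfsg.Agent.H852.IMLocal Subgroup Equiv
open Cfsg.Agent.SporadicA.PermTab Cfsg.Agent.HN.HS100 Cfsg.Agent.H852.IMHS
open Cfsg.Agent.H625.SylConst Cfsg.Agent.H661.SC

universe u

theorem imc_five {S : Type u} [Group S] [Finite S] (h : Spor.IsoHS S) : IMC 5 S := by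
  have hF5 : Fact (Nat.Prime 5) := ⟨by norm_num⟩
  obtain ⟨⟨e⟩, -⟩ := Cfsg.Agent.HN.AutHS.nonempty_Q
  obtain ⟨e'⟩ := h
  refine IMC.of_equiv (e'.trans e.symm) ?_
  have hQ : Nat.card Q = 44352000 := Cfsg.Agent.HN.AutBound.card_Q
  have : Fact (Nat.Prime 3) := ⟨by norm_num⟩
  have : Fact (Nat.Prime 2) := ⟨by norm_num⟩
  obtain ⟨x, hx⟩ := exists_el in5x
  obtain ⟨a, ha⟩ := exists_el inua
  obtain ⟨b, hb⟩ := exists_el inub
  obtain ⟨s, hs⟩ := exists_el inus
  obtain ⟨t, ht⟩ := exists_el inut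
  have hxo : orderOf x = 5 := orderOf_of hx (by decide +kernel) 0 (by decide +kernel)
  have hao : orderOf a = 5 := orderOf_of ha (by decide +kernel) 0 (by decide +kernel)
  have hbo : orderOf b = 5 := orderOf_of hb (by decide +kernel) 0 (by decide +kernel)
  have hso : orderOf s = 3 := orderOf_of hs (by decide +kernel) 0 (by decide +kernel)
  have hto : orderOf t = 2 := orderOf_of ht (by decide +kernel) 0 (by decide +kernel)
  have hax : a * x = x * a := commute_of ha hx (by decide +kernel)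
  have hbx : b * x = x * b := commute_of hb hx (by decide +kernel)
  have hsx : s * x = x * s := commute_of hs hx (by decide +kernel)
  have htx : t * x = x * t := commute_of ht hx (by decide +kernel)
  set C := centralizer ({x} : Set Q) with hC
  let x' : C := ⟨x, mem_centralizer_singleton_iff.2 rfl⟩
  let a' : C := ⟨a, mem_centralizer_singleton_iff.2 hax⟩
  let b' : C := ⟨b, mem_centralizer_singleton_iff.2 hbx⟩
  let s' : C := ⟨s, mem_centralizer_singleton_iff.2 hsx⟩
  let t' : C := ⟨t, mem_centralizer_singleton_iff.2 htx⟩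
  have hx'o : orderOf x' = 5 := by rw [← Subgroup.orderOf_coe]; exact hxo
  have ha'o : orderOf a' = 5 := by rw [← Subgroup.orderOf_coe]; exact hao
  have hb'o : orderOf b' = 5 := by rw [← Subgroup.orderOf_coe]; exact hbo
  have h2 : 2 ∣ Nat.card C := by
    have h := orderOf_dvd_natCard t'
    rwa [← Subgroup.orderOf_coe, show ((t' : C) : Q) = t from rfl, hto] at h
  have h3 : 3 ∣ Nat.card C := by
    have h := orderOf_dvd_natCard s'
    rwa [← Subgroup.orderOf_coe, show ((s' : C) : Q) = s from rfl, hso] at h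
  -- the central subgroup
  have hcen : ∀ c : C, c * x' = x' * c := fun c => Subtype.ext (mem_centralizer_singleton_iff.1 c.2)
  have hN : (zpowers x').Normal := by
    refine ⟨fun n hn g => ?_⟩
    obtain ⟨k, rfl⟩ := mem_zpowers_iff.1 hn
    have h : g * x' ^ k = x' ^ k * g := ((Commute.zpow_right (hcen g) k) : Commute g (x' ^ k))
    rw [h, mul_inv_cancel_right]
    exact ⟨k, rfl⟩
  have hna : a' ∉ zpowers x' := by
    intro h
    -- then `a` would commute with `b`
    obtain ⟨k, hk⟩ := mem_zpowers_iff.1 h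
    have h4 : Commute b' a' := by
      rw [← hk]
      exact Commute.zpow_right (hcen b') k
    have h5 : b * a = a * b := congrArg (fun z : C => (z : Q)) (h4 : b' * a' = a' * b')
    have h6 : ((b : Perm (Fin 100)) ((a : Perm (Fin 100)) (0 : Fin 100)) : ℕ) = (a : Perm (Fin 100)) ((b : Perm (Fin 100)) (0 : Fin 100)) :=
      congrArg (fun z : Q => (((z : Perm (Fin 100)) (0 : Fin 100) : Fin 100) : ℕ)) h5
    rw [hb, ha, ha, hb] at h6
    revert h6
    decide +kernel
  have h5 : 25 ∣ Nat.card C := by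
    have h4 : Nat.card C = Nat.card (C ⧸ zpowers x') * Nat.card (zpowers x') :=
      Subgroup.card_eq_card_quotient_mul_card_subgroup _
    rw [Nat.card_zpowers, hx'o] at h4
    have h6 : orderOf (QuotientGroup.mk' (zpowers x') a') = 5 := by
      refine orderOf_eq_prime ?_ ?_
      · rw [← map_pow, ← ha'o, pow_orderOf_eq_one, map_one]
      · intro h
        exact hna ((QuotientGroup.eq_one_iff a').1 h)
    have h7 := orderOf_dvd_natCard (QuotientGroup.mk' (zpowers x') a')
    rw [h6] at h7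
    rw [h4]
    exact Nat.mul_dvd_mul h7 dvd_rfl
  have hle : Nat.card C ≤ 600 := card_le_600 hx
  obtain ⟨h125, hfac, hsyl⟩ := arith Nat.card_pos hle h2 h3 h5
  refine imc_of_cent hxo ?_ h125 (by rw [hQ]; norm_num)
  refine im_of_sylow (card_sylow_of ?_ hsyl)
  intro h
  have hss : Subsingleton (Sylow 5 C) := (Nat.card_eq_one_iff_unique.1 h).1
  obtain ⟨P⟩ : Nonempty (Sylow 5 C) := inferInstance
  have hPc : Nat.card P = 5 ^ 2 := by
    rw [P.card_eq_multiplicity, hfac]
  have hmem : ∀ g : C, orderOf g = 5 → g ∈ (P : Subgroup C) := by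
    intro g hg
    have h4 : IsPGroup 5 (zpowers g) := IsPGroup.of_card (n := 1) (by rw [Nat.card_zpowers, hg, pow_one])
    obtain ⟨R, hR⟩ := h4.exists_le_sylow
    rw [Subsingleton.elim P R]
    exact hR (mem_zpowers g)
  have hcomm := IsPGroup.commutative_of_card_eq_prime_sq hPc
  have h4 : (⟨b', hmem b' hb'o⟩ : P) * ⟨a', hmem a' ha'o⟩ = ⟨a', hmem a' ha'o⟩ * ⟨b', hmem b' hb'o⟩ := hcomm _ _
  have h5 : b * a = a * b := congrArg (fun z : P => ((z : C) : Q)) h4
  have h6 : ((b : Perm (Fin 100)) ((a : Perm (Fin 100)) (0 : Fin 100)) : ℕ) = (a : Perm (Fin 100)) ((b : Perm (Fin 100)) (0 : Fin 100)) :=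
    congrArg (fun z : Q => (((z : Perm (Fin 100)) (0 : Fin 100) : Fin 100) : ℕ)) h5
  rw [hb, ha, ha, hb] at h6
  revert h6
  decide +kernel

/-- **`HS`** -/
theorem imc_hs {S : Type u} [Group S] [Finite S] (h : Spor.IsoHS S) {p : ℕ} [hp : Fact p.Prime]
    (hd : p ∣ Nat.card S) : IMC p S := by
  have hc : Nat.card S = 44352000 := NotCT.Orders.hs h
  have hm : p ∈ [2, 3, 5, 7, 11] :=
    H852.IMSuz.prime_cases' hp.out [2, 3, 5, 7, 11] (by decide) 9 (n := Nat.card S) hd (by rw [hc]; norm_num)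
  simp only [List.mem_cons, List.not_mem_nil, or_false] at hm
  have hIM := im_hs h hd
  rcases hm with rfl | rfl | rfl | rfl | rfl
  · exact imc_of_loc (H287.Blk.loc_HS h)
  · exact imc_of_IM (by rw [hc]; norm_num) hIM
  · exact imc_five h
  · exact imc_of_IM (by rw [hc]; norm_num) hIM
  · exact imc_of_IM (by rw [hc]; norm_num) hIM

end Cfsg.Agent.H84.IMC.HS
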