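import Cfsg.Agent.H84.IMC.Tools
import Cfsg.Agent.H493.NB.RowHSMcL
import Cfsg.Agent.H52.FourMcL

/-!
# `IMC` for `McL` (helper84, S4526): the degrees 5103 and 4500
-/

set_option autoImplicit false

namespace Cfsg.Agent.H84.IMC.McL

open Cfsg Cfsg.Agent Cfsg.Agent.H904.McLCent Cfsg.Agent.McLType.X275 Cfsg.Agent.McLType.Gens Cfsg.Agent.H678.DG
open Cfsg.Agent.H625.SylConst Cfsg.Agent.H661.SC

universe u

theorem fac {N p n m : ℕ} (hp : p.Prime) (hN : N = p ^ n * m) (hm : ¬ p ∣ m) : N.factorization p = n := by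
  have hm0 : m ≠ 0 := by rintro rfl; exact hm (dvd_zero _)
  rw [hN, Nat.factorization_mul (pow_ne_zero _ hp.ne_zero) hm0, hp.factorization_pow, Finsupp.add_apply,
    Finsupp.single_eq_same, Nat.factorization_eq_zero_of_not_dvd hm, add_zero]

/-- **`McL`** -/
theorem imc_mcl {S : Type u} [Group S] [Finite S] (h : Spor.IsoMcL S) {p : ℕ} [hp : Fact p.Prime]
    (hd : p ∣ Nat.card S) : IMC p S := by
  have hc : Nat.card S = 898128000 := NotCT.Orders.mcl h
  have hm : p ∈ [2, 3, 5, 7, 11] :=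
    H852.IMSuz.prime_cases' hp.out [2, 3, 5, 7, 11] (by decide) 7 (n := Nat.card S) hd (by rw [hc]; norm_num)
  simp only [List.mem_cons, List.not_mem_nil, or_false] at hm
  have hIM := H852.IMMcL.im_mcl h hd
  obtain ⟨θ, R⟩ := exists_rep h
  let f : S ≃* K0 := (MonoidHom.ofInjective R.inj).trans (MulEquiv.subgroupCongr R.range)
  have hc0 := McLDeg.card_K0
  have hfin : Finite K0 := Finite.of_equiv S f.toEquiv
  rcases hm with rfl | rfl | rfl | rfl | rfl
  · exact imc_of_loc (H52.FourMcL.loc_McL h)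
  · obtain ⟨χ, hχ⟩ := McLDeg.deg_5103
    refine IMC.of_equiv f (IMC.of_defect_zero (by rw [hc0]; norm_num) χ ?_)
    rw [fac (n := 6) (m := 1232000) Nat.prime_three hc0 (by norm_num), hχ]
    norm_num
  · obtain ⟨χ, hχ⟩ := McLDeg.deg_4500
    refine IMC.of_equiv f (IMC.of_defect_zero (by rw [hc0]; norm_num) χ ?_)
    rw [fac (n := 3) (m := 7185024) (by norm_num) hc0 (by norm_num), hχ]
    norm_num
  · exact imc_of_IM (by rw [hc]; norm_num) hIM
  · exact imc_of_IM (by rw [hc]; norm_num) hIM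

end Cfsg.Agent.H84.IMC.McL
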