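import Cfsg.Agent.H84.IMC.Tools
import Cfsg.Agent.H870.IMRu
import Cfsg.Agent.H52.FourRu
import Cfsg.Agent.H852.IMSuz

/-!
# `IMC` for `Ru` (helper84, S4526)
-/

set_option autoImplicit false
set_option maxRecDepth 100000

namespace Cfsg.Agent.H84.IMC.Ru

open Cfsg Cfsg.Agent.H33 Subgroup Cfsg.Agent.H870.IMR3 Cfsg.Agent.H870.IMLocal
open Cfsg.Agent.SporadicB Cfsg.Agent.RuD.Letters Cfsg.Agent.SporRec.TCUpperCert
open Cfsg.Agent.KFacts.Ru Cfsg.Agent.KFacts.Ru.CentEng Cfsg.Agent.CpAutRuFive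
open Cfsg.Agent.H870.IMRu Cfsg.Agent.CpAutRuFive.Cert
open Cfsg.Agent.H625.SylConst Cfsg.Agent.H661.SC

universe u

/-- **`p = 5`** -/
theorem imc_five : IMC 5 RuOrder.H := by
  have := finite_H
  have : Fact (Nat.Prime 5) := ⟨by norm_num⟩
  have hr := rel_of_chk chkY
  have hY : wprod ml [5, 5] = (1 : RuOrder.H) := hr _ (by simp)
  have hB : wprod ml [0, 4, 0, 4, 0, 4] = (1 : RuOrder.H) := hr _ (by simp)
  have hYB : wprod ml [5, 0, 4, 5, 0, 4, 5, 0, 4, 5, 0, 4, 5, 0, 4] = (1 : RuOrder.H) := hr _ (by simp)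
  have e1 : wprod ml [5, 5] = (wprod ml [5] : RuOrder.H) ^ 2 := by
    rw [show ([5, 5] : List ℕ) = [5] ++ [5] from rfl, wprod_append, pow_two]
  have e2 : wprod ml [0, 4, 0, 4, 0, 4] = (wprod ml [0, 4] : RuOrder.H) ^ 3 := by
    rw [show ([0, 4, 0, 4, 0, 4] : List ℕ) = [0, 4] ++ ([0, 4] ++ [0, 4]) from rfl, wprod_append, wprod_append]
    simp only [pow_succ, pow_zero, one_mul, mul_assoc]
  have e3 : wprod ml [5, 0, 4, 5, 0, 4, 5, 0, 4, 5, 0, 4, 5, 0, 4] =
      ((wprod ml [5] : RuOrder.H) * wprod ml [0, 4]) ^ 5 := by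
    rw [show ([5, 0, 4, 5, 0, 4, 5, 0, 4, 5, 0, 4, 5, 0, 4] : List ℕ) =
      ([5] ++ [0, 4]) ++ (([5] ++ [0, 4]) ++ (([5] ++ [0, 4]) ++ (([5] ++ [0, 4]) ++ ([5] ++ [0, 4])))) from rfl]
    simp only [wprod_append]
    simp only [pow_succ, pow_zero, one_mul, mul_assoc]
  have hca := eq_of_chkEq chkCa
  have hcb := eq_of_chkEq chkCb
  rw [wprod_append, wprod_append] at hca hcb
  obtain ⟨h1, h2⟩ := im_cent_five (x := (wprod ml wB : RuOrder.H)) orderB cardB hca hcb (e1.symm.trans hY)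
    (e2.symm.trans hB) (e3.symm.trans hYB) ne_one
  refine imc_of_cent orderB h1 h2 ?_
  rw [SporadicB.RuOrder.card_H]
  norm_num

/-- the degrees of the constituents of the rank three permutation character: one of them is divisible by 9 -/
theorem nine {f g D : ℕ} (h1 : f + g = 1755 + 2304) (h2 : f * g * D = (1 + 1755 + 2304) * 1755 * 2304)
    (h3 : f ≠ g → IsSquare D) : 3 ^ 2 ∣ f ∨ 3 ^ 2 ∣ g := by
  by_contra hcon
  push Not at hcon
  obtain ⟨d, rfl⟩ := h3 (by omega)
  have hN : (1 + 1755 + 2304) * 1755 * 2304 ≠ 0 := by norm_num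
  have hf0 : f ≠ 0 := by rintro rfl; exact hcon.1 (dvd_zero _)
  have hg0 : g ≠ 0 := by rintro rfl; exact hcon.2 (dvd_zero _)
  have hd0 : d ≠ 0 := by rintro rfl; rw [mul_zero, mul_zero] at h2; exact hN h2.symm
  have h4 := congrArg (fun n => n.factorization 3) h2
  beta_reduce at h4
  rw [Nat.factorization_mul (mul_ne_zero hf0 hg0) (mul_ne_zero hd0 hd0),
    Nat.factorization_mul hf0 hg0, Nat.factorization_mul hd0 hd0] at h4
  rw [H690.Spor.RankRows.fac (n := 5) (m := 1 * 4060 * 65 * 256) (by norm_num) (by norm_num) (by norm_num)] at h4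
  simp only [Finsupp.add_apply] at h4
  have h5 : f.factorization 3 < 2 := by
    by_contra h
    exact hcon.1 ((Nat.prime_three.pow_dvd_iff_le_factorization hf0).2 (not_lt.1 h))
  have h6 : g.factorization 3 < 2 := by
    by_contra h
    exact hcon.2 ((Nat.prime_three.pow_dvd_iff_le_factorization hg0).2 (not_lt.1 h))
  have h7 : (f.factorization 3 = 1 ∧ g.factorization 3 = 0) ∨ (f.factorization 3 = 0 ∧ g.factorization 3 = 1) := by
    omega
  rcases h7 with ⟨h7, h8⟩ | ⟨h7, h8⟩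
  · have h9 := (Nat.prime_three.dvd_iff_one_le_factorization hf0).2 (by omega)
    have h10 : ¬ 3 ∣ g := fun h => by
      have := (Nat.prime_three.dvd_iff_one_le_factorization hg0).1 h
      omega
    omega
  · have h9 := (Nat.prime_three.dvd_iff_one_le_factorization hg0).2 (by omega)
    have h10 : ¬ 3 ∣ f := fun h => by
      have := (Nat.prime_three.dvd_iff_one_le_factorization hf0).1 h
      omega
    omega

/-- **`Ru`** -/
theorem imc_ru {S : Type u} [Group S] [Finite S] (h : Spor.IsoRu S) {p : ℕ} [hp : Fact p.Prime]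
    (hd : p ∣ Nat.card S) : IMC p S := by
  have hIM := im_ru h hd
  have hh := h
  obtain ⟨e⟩ := h
  have e' := e.trans Cfsg.Agent.RuLat.Main.equiv
  have := finite_H
  have hc : Nat.card S = 145926144000 := by rw [Nat.card_congr e'.toEquiv, SporadicB.RuOrder.card_H]
  have hm : p ∈ [2, 3, 5, 7, 13, 29] :=
    H852.IMSuz.prime_cases' hp.out [2, 3, 5, 7, 13, 29] (by decide) 14 (n := Nat.card S) hd (by rw [hc]; norm_num)
  simp only [List.mem_cons, List.not_mem_nil, or_false] at hm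
  rcases hm with rfl | rfl | rfl | rfl | rfl | rfl
  · exact imc_of_loc (H52.FourRu.loc_Ru hh)
  · obtain ⟨R, hR⟩ := H690.Spor.Ru.r3
    refine IMC.of_equiv e' (imc_of_r3 hR (d := 2) ?_ (by norm_num) fun f g D => nine)
    rw [SporadicB.RuOrder.card_H, H690.Spor.RankRows.fac (n := 3) (m := 5404672000) (by norm_num) (by norm_num)
      (by norm_num)]
  · exact IMC.of_equiv e' imc_five
  · exact imc_of_IM (by rw [hc]; norm_num) hIM
  · exact imc_of_IM (by rw [hc]; norm_num) hIM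
  · exact imc_of_IM (by rw [hc]; norm_num) hIM

end Cfsg.Agent.H84.IMC.Ru
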