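import Cfsg.Agent.H84.IMC.Tools
import Cfsg.Agent.CpAutSuz.ThreeC
import Cfsg.Agent.H852.IMSuz
import Cfsg.Agent.H999.ONIMThree
import Cfsg.Agent.H326.Four.RowSuz

/-!
# `IMC` for `Suz` (helper84, S4526)

`p = 3`: `D = E` of order 9, `C(E) / E = A₆`.
-/

set_option autoImplicit false

namespace Cfsg.Agent.H84.IMC.Suz

open Cfsg Subgroup Cfsg.Spor Cfsg.Agent.H33
open Cfsg.Agent.CpAutSuz.ThreeC
open Cfsg.Agent.PreUniq.Spor.SuzP
open Cfsg.Agent.H625.SylConst Cfsg.Agent.H661.SC

universe u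

theorem card_suz : Nat.card Suz = 448345497600 :=
  OrdDiv.table_spor Spor.Suz (.suz, 448345497600) (by decide +kernel) ⟨MulEquiv.refl _⟩

/-- 3-elements of `N(E)` -/
theorem mem_of_norm {g : Suz} (hg : g ∈ normalizer (E : Set Suz)) (hk : ∃ k : ℕ, orderOf g = 3 ^ k) : g ∈ X := by
  have := finSuz
  have hF : Fact (Nat.Prime 3) := ⟨Nat.prime_three⟩
  obtain ⟨k, hk⟩ := hk
  have hP : IsPGroup 3 (zpowers g) := IsPGroup.iff_card.2 ⟨k, by rw [Nat.card_zpowers, hk]⟩
  let act : MulAction (zpowers g) E :=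
    { smul := fun a b => ⟨(a : Suz) * b * (a : Suz)⁻¹, by
        have ha : (a : Suz) ∈ normalizer (E : Set Suz) := (zpowers_le.2 hg) a.2
        exact (mem_normalizer_iff.1 ha b).1 b.2⟩
      one_smul := fun b => Subtype.ext (by
        show (1 : Suz) * b * (1 : Suz)⁻¹ = b
        group)
      mul_smul := fun a b c => Subtype.ext (by
        show ((a : Suz) * b) * c * ((a : Suz) * b)⁻¹ = a * (b * c * (b : Suz)⁻¹) * (a : Suz)⁻¹
        group) }
  have h1 := hP.card_modEq_card_fixedPoints (α := E)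
  rw [card_E] at h1
  have h2 : 3 ∣ Nat.card (MulAction.fixedPoints (zpowers g) E) := (h1.dvd_iff dvd_rfl).1 (by norm_num)
  have h3 : 1 < Nat.card (MulAction.fixedPoints (zpowers g) E) := by
    have h4 : 0 < Nat.card (MulAction.fixedPoints (zpowers g) E) := by
      have : Nonempty (MulAction.fixedPoints (zpowers g) E) :=
        ⟨⟨1, fun a => Subtype.ext (by
          show (a : Suz) * ((1 : E) : Suz) * (a : Suz)⁻¹ = _
          rw [OneMemClass.coe_one, mul_one, mul_inv_cancel])⟩⟩
      exact Nat.card_pos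
    exact lt_of_lt_of_le (by norm_num) (Nat.le_of_dvd h4 h2)
  obtain ⟨⟨a, ha⟩, ⟨b, hb⟩, hab⟩ := (Finite.one_lt_card_iff_nontrivial.1 h3).exists_pair_ne
  have hfix : ∀ c : E, c ∈ MulAction.fixedPoints (zpowers g) E → g * c * g⁻¹ = c :=
    fun c hc => congrArg Subtype.val (hc ⟨g, mem_zpowers g⟩)
  by_cases ha1 : (a : Suz) = 1
  · refine cent_x b.2 (fun hb1 => hab ?_) (mul_inv_eq_iff_eq_mul.1 (hfix b hb))
    exact Subtype.ext (Subtype.ext (ha1.trans hb1.symm))
  · exact cent_x a.2 ha1 (mul_inv_eq_iff_eq_mul.1 (hfix a ha))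

theorem fac {N p n m : ℕ} (hp : p.Prime) (hN : N = p ^ n * m) (hm : ¬ p ∣ m) : N.factorization p = n := by
  have hm0 : m ≠ 0 := by rintro rfl; exact hm (dvd_zero _)
  rw [hN, Nat.factorization_mul (pow_ne_zero _ hp.ne_zero) hm0, hp.factorization_pow, Finsupp.add_apply,
    Finsupp.single_eq_same, Nat.factorization_eq_zero_of_not_dvd hm, add_zero]

theorem imc_three : IMC 3 Suz := by
  have := finSuz
  have hF : Fact (Nat.Prime 3) := ⟨Nat.prime_three⟩
  have hn : (E.subgroupOf X).Normal := inferInstance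
  have hs := simple_X
  have hidx : 3 ∣ E.index := by
    have h1 := E.card_mul_index
    rw [card_E, card_suz] at h1
    have h2 : E.index = 49816166400 := by omega
    rw [h2]; norm_num
  refine imc_of_weight E isPGroup_E hidx (show centralizer (E : Set Suz) →* X ⧸ E.subgroupOf X from QuotientGroup.mk' (E.subgroupOf X))
    (QuotientGroup.mk'_surjective (E.subgroupOf X)) ?_
    (H999.ONIMThree.hasDZ_360 card_quot) (fun g hg hk => mem_sup_right (mem_of_norm hg hk))
  have hle : E ≤ X := E_le_X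
  change (Nat.card X).factorization 3 ≤ (Nat.card (X ⧸ E.subgroupOf X)).factorization 3 +
    (Nat.card ↥(E ⊓ X)).factorization 3
  rw [inf_eq_left.2 hle, card_X, card_quot, card_E, fac (n := 4) (m := 40) Nat.prime_three (by norm_num) (by norm_num),
    fac (n := 2) (m := 40) Nat.prime_three (by norm_num) (by norm_num),
    fac (n := 2) (m := 1) Nat.prime_three (by norm_num) (by norm_num)]

/-- **`Suz`** -/
theorem imc_suz {S : Type u} [Group S] [Finite S] (h : Spor.IsoSuz S) {p : ℕ} [hp : Fact p.Prime]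
    (hd : p ∣ Nat.card S) : IMC p S := by
  have hIM := H852.IMSuz.im_suz h hd
  have hh := h
  obtain ⟨e⟩ := h
  have hc : Nat.card S = 448345497600 := by rw [Nat.card_congr e.toEquiv]; exact card_suz
  have hm := H852.IMSuz.prime_cases' hp.out [2, 3, 5, 7, 11, 13] (by decide) 13 hd (by rw [hc]; norm_num)
  simp only [List.mem_cons, List.not_mem_nil, or_false] at hm
  rcases hm with rfl | rfl | rfl | rfl | rfl | rfl
  · exact imc_of_loc (H326.Four.RowSuz.loc_Suz hh)
  · exact IMC.of_equiv e imc_three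
  · exact imc_of_IM (by rw [hc]; norm_num) hIM
  · exact imc_of_IM (by rw [hc]; norm_num) hIM
  · exact imc_of_IM (by rw [hc]; norm_num) hIM
  · exact imc_of_IM (by rw [hc]; norm_num) hIM

end Cfsg.Agent.H84.IMC.Suz
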