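import Cfsg.Agent.H661.SC.Base
import Cfsg.Agent.H492.IMPair
import Cfsg.Agent.H870.IMLocal
import Cfsg.Agent.H870.IMR3

/-!
# Local criteria for `IMC` (helper84, for the sporadic rows of S4526)

* `imc_of_weight` : `D` a `p`-subgroup, `p ∣ |G : D|`, `C_G(D)` has a quotient `H` with a character of defect zero,
  `|C_G(D)|_p ≤ |H|_p |Z(D)|_p`, and the `p`-elements of `N_G(D)` are in `D C_G(D)`;
* `imc_of_cent_char`, `imc_of_cent_quot`, `imc_of_cent` : `D = ⟨x⟩`, `x` of order `p`, `p ^ 2 ∣ |G|`;
  `imc_of_cent` : `IM p C(x)` and `p ^ 3 ∤ |C(x)|`;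
* `imc_of_pair` : the same hypotheses as `H492.IMTools.IM_of_pair`;
* `imc_of_r3` : rank three permutation characters, `p ^ (d - 1)` divides one of the two degrees, `|G|_p = p ^ d`.
-/

set_option autoImplicit false

open Cfsg Cfsg.Agent.Characters.Core Cfsg.Agent.Blocks.Basic
open Cfsg.Agent.H713 Cfsg.Agent.H713.Count Cfsg.Agent.H33 Cfsg.Agent.H665.NoPQ
open Cfsg.Agent.H492.IMTools Cfsg.Agent.H625.SylConst Cfsg.Agent.H661.SC

namespace Cfsg.Agent.H84.IMC

universe u v

section

variable {G : Type u} [Group G] {p : ℕ} [hp : Fact p.Prime]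

/-- **Weights**: a `p`-subgroup `D`, a quotient `H` of `C_G(D)` with a character of defect zero. -/
theorem imc_of_weight [Finite G] (D : Subgroup G) (hD : IsPGroup p D) (hidx : p ∣ D.index) {H : Type v} [Group H]
    (f : Subgroup.centralizer (D : Set G) →* H) (hf : Function.Surjective f)
    (hH : (Nat.card (Subgroup.centralizer (D : Set G))).factorization p ≤ (Nat.card H).factorization p +
      (Nat.card ↥(D ⊓ Subgroup.centralizer (D : Set G))).factorization p) (h : HasDZ p H)
    (hst : ∀ g : G, g ∈ Subgroup.normalizer (D : Set G) → (∃ k : ℕ, orderOf g = p ^ k) →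
      g ∈ D ⊔ Subgroup.centralizer (D : Set G)) : IMC p G := by
  obtain ⟨χ, hχ⟩ := h
  refine imc_of_local D hD hidx ⟨(χ : H → ℂ) ∘ f, isIrr_comp f hf χ.2⟩ ?_ hst
  have h2 : charDegree ((χ : H → ℂ) ∘ f) = charDegree (χ : H → ℂ) := by
    unfold charDegree
    rw [Function.comp_apply, map_one]
  show _ ≤ (charDegree ((χ : H → ℂ) ∘ f)).factorization p + _
  rw [h2, hχ]
  exact hH

theorem imc_of_cent_char [Finite G] {x : G} (hx : orderOf x = p) (hG : p ^ 2 ∣ Nat.card G)
    (θ : IrrCharacter (Subgroup.centralizer ((Subgroup.zpowers x : Subgroup G) : Set G)))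
    (hθ : (Nat.card (Subgroup.centralizer ({x} : Set G))).factorization p ≤
      (charDegree (θ : Subgroup.centralizer ((Subgroup.zpowers x : Subgroup G) : Set G) → ℂ)).factorization
        p + 1) : IMC p G := by
  have hD : IsPGroup p (Subgroup.zpowers x) := by
    apply IsPGroup.of_card (n := 1)
    rw [Nat.card_zpowers, hx, pow_one]
  have hle : Subgroup.zpowers x ≤
      Subgroup.centralizer ((Subgroup.zpowers x : Subgroup G) : Set G) := by
    rw [centralizer_zpowers, Subgroup.zpowers_le]
    exact Subgroup.mem_centralizer_singleton_iff.2 rfl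
  refine imc_of_local (Subgroup.zpowers x) hD ?_ θ ?_ ?_
  · have h1 := (Subgroup.zpowers x).card_mul_index
    rw [Nat.card_zpowers, hx] at h1
    rw [← h1, pow_two] at hG
    exact Nat.dvd_of_mul_dvd_mul_left hp.out.pos hG
  · have hcd : Nat.card (Subgroup.centralizer ((Subgroup.zpowers x : Subgroup G) : Set G)) =
        Nat.card (Subgroup.centralizer ({x} : Set G)) := by rw [centralizer_zpowers]
    rw [inf_eq_left.2 hle, Nat.card_zpowers, hx, hp.out.factorization_self, hcd]
    exact hθ
  · rintro g hg ⟨k, hk⟩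
    apply Subgroup.mem_sup_right
    rw [centralizer_zpowers]
    exact mem_centralizer_of_norm hx hg hk

/-- `C_G(x) / K` has a character of defect zero, and `|K|_p = p`. -/
theorem imc_of_cent_quot [Finite G] {x : G} (hx : orderOf x = p) (hG : p ^ 2 ∣ Nat.card G)
    {H : Type v} [Group H] (f : Subgroup.centralizer ({x} : Set G) →* H)
    (hf : Function.Surjective f)
    (hH : (Nat.card (Subgroup.centralizer ({x} : Set G))).factorization p ≤
      (Nat.card H).factorization p + 1) (h : HasDZ p H) : IMC p G := by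
  obtain ⟨χ, hχ⟩ := h
  have e : Subgroup.centralizer ((Subgroup.zpowers x : Subgroup G) : Set G) ≃*
      Subgroup.centralizer ({x} : Set G) := MulEquiv.subgroupCongr (centralizer_zpowers x)
  have hfe : Function.Surjective (f.comp e.toMonoidHom) := hf.comp e.surjective
  refine imc_of_cent_char hx hG ⟨(χ : H → ℂ) ∘ (f.comp e.toMonoidHom),
    isIrr_comp (f.comp e.toMonoidHom) hfe χ.2⟩ ?_
  have h2 : charDegree ((χ : H → ℂ) ∘ (f.comp e.toMonoidHom)) = charDegree (χ : H → ℂ) := by
    unfold charDegree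
    rw [Function.comp_apply, map_one]
  show _ ≤ (charDegree ((χ : H → ℂ) ∘ (f.comp e.toMonoidHom))).factorization p + 1
  rw [h2, hχ]
  exact hH

/-- `C_G(x)` has a character of degree divisible by `p`, and `p ^ 3 ∤ |C_G(x)|`. -/
theorem imc_of_cent [Finite G] {x : G} (hx : orderOf x = p) (h : IM p (Subgroup.centralizer ({x} : Set G)))
    (hc : ¬ p ^ 3 ∣ Nat.card (Subgroup.centralizer ({x} : Set G))) (hG : p ^ 2 ∣ Nat.card G) : IMC p G := by
  have hcent : Subgroup.centralizer ((Subgroup.zpowers x : Subgroup G) : Set G) = Subgroup.centralizer {x} :=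
    centralizer_zpowers x
  have h' : IM p (Subgroup.centralizer ((Subgroup.zpowers x : Subgroup G) : Set G)) := by rw [hcent]; exact h
  obtain ⟨θ, hθ⟩ := h'
  refine imc_of_cent_char hx hG θ ?_
  have h1 : (Nat.card (Subgroup.centralizer ({x} : Set G))).factorization p ≤ 2 := by
    by_contra hcon
    push Not at hcon
    exact hc ((hp.out.pow_dvd_iff_le_factorization Nat.card_pos.ne').2 hcon)
  have h2 := (hp.out.dvd_iff_one_le_factorization (charDegree_pos θ.2).ne').1 hθ
  omega

/-- **T3 for two commuting elements of order `p`.** -/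
theorem imc_of_pair [Finite G] {x y : G} (hx : orderOf x = p) (hy : orderOf y = p)
    (hcomm : y * x = x * y) (hyx : y ∉ Subgroup.zpowers x)
    (hxy : ∀ q : ℕ, q.Prime → q ≠ p →
      ¬ q ∣ Nat.card ↥(Subgroup.centralizer ({x} : Set G) ⊓ Subgroup.centralizer ({y} : Set G)))
    {m : ℕ} (hC : Nat.card (Subgroup.centralizer ({x} : Set G)) = p ^ 2 * m) (hpm : ¬ p ∣ m)
    (s : Finset ℕ) (hs : ∀ n ∈ s, ¬ p ∣ n ∧ ∃ g : G, g * x = x * g ∧ orderOf g = n)
    (hcard : m % p ∣ p - 1 → m % p < s.card) : IMC p G := by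
  classical
  set C := Subgroup.centralizer ({x} : Set G) with hCdef
  have hG : p ^ 2 ∣ Nat.card G :=
    (Dvd.intro m hC.symm).trans (Subgroup.card_subgroup_dvd_card C)
  set z : C := ⟨x, Subgroup.mem_centralizer_singleton_iff.2 rfl⟩ with hz
  set y' : C := ⟨y, Subgroup.mem_centralizer_singleton_iff.2 hcomm⟩ with hy'
  have hzo : orderOf z = p := by rw [hz, Subgroup.orderOf_mk, hx]
  have hyo : orderOf y' = p := by rw [hy', Subgroup.orderOf_mk, hy]
  have hzc : ∀ c : C, c * z = z * c := fun c =>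
    Subtype.ext (Subgroup.mem_centralizer_singleton_iff.1 c.2)
  have hnorm : (Subgroup.zpowers z).Normal := by
    refine ⟨fun n hn g => ?_⟩
    obtain ⟨k, rfl⟩ := hn
    have : g * z ^ k * g⁻¹ = z ^ k := by
      rw [((show Commute g z from hzc g).zpow_right k).eq, mul_inv_cancel_right]
    show g * z ^ k * g⁻¹ ∈ _
    rw [this]
    exact ⟨k, rfl⟩
  have hm : m ≠ 0 := by rintro rfl; exact hpm (dvd_zero _)
  -- the quotient
  have hH : Nat.card (C ⧸ Subgroup.zpowers z) = p * m := by
    have h1 := Subgroup.card_eq_card_quotient_mul_card_subgroup (Subgroup.zpowers z)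
    rw [hC, Nat.card_zpowers, hzo] at h1
    have h2 : p * (p * m) = p * Nat.card (C ⧸ Subgroup.zpowers z) := by
      rw [mul_comm p (Nat.card _), ← h1]; ring
    exact (Nat.eq_of_mul_eq_mul_left hp.out.pos h2).symm
  have hHf : (Nat.card (C ⧸ Subgroup.zpowers z)).factorization p = 1 := by
    rw [hH, Nat.factorization_mul hp.out.ne_zero hm, Finsupp.add_apply,
      hp.out.factorization_self, Nat.factorization_eq_zero_of_not_dvd hpm]
  have hyb : orderOf (QuotientGroup.mk y' : C ⧸ Subgroup.zpowers z) = p := by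
    apply orderOf_eq_prime
    · have : (QuotientGroup.mk y' : C ⧸ Subgroup.zpowers z) ^ p = QuotientGroup.mk (y' ^ p) := rfl
      rw [this, ← hyo, pow_orderOf_eq_one]
      rfl
    · intro h
      rw [QuotientGroup.eq_one_iff] at h
      obtain ⟨k, hk⟩ := h
      apply hyx
      refine ⟨k, ?_⟩
      have := congrArg Subtype.val hk
      exact this
  have hq : ∀ q : ℕ, q.Prime → q ≠ p → ¬ q ∣ Nat.card (Subgroup.centralizer ({y'} : Set C)) := by
    intro q hq hne hd
    refine hxy q hq hne (hd.trans (dvd_of_eq ?_))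
    apply Nat.card_congr
    refine
      { toFun := fun c => ⟨c.1.1, c.1.2, ?_⟩
        invFun := fun c => ⟨⟨c.1, c.2.1⟩, ?_⟩
        left_inv := fun _ => rfl
        right_inv := fun _ => rfl }
    · have h1 := Subgroup.mem_centralizer_singleton_iff.1 c.2
      exact Subgroup.mem_centralizer_singleton_iff.2 (congrArg Subtype.val h1)
    · rw [Subgroup.mem_centralizer_singleton_iff]
      exact Subtype.ext (Subgroup.mem_centralizer_singleton_iff.1 c.2.2)
  have hpg := isPGroup_centralizer_mk (p := p) (by rw [← hzo]; exact pow_orderOf_eq_one z) hzc hq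
  have hcb : Nat.card (Subgroup.centralizer
      ({(QuotientGroup.mk y' : C ⧸ Subgroup.zpowers z)} : Set (C ⧸ Subgroup.zpowers z))) = p := by
    obtain ⟨k, hk⟩ := IsPGroup.iff_card.1 hpg
    have h1 : p ∣ p ^ k := by
      rw [← hk, ← hyb, ← Subgroup.orderOf_mk _ (Subgroup.mem_centralizer_singleton_iff.2 rfl)]
      exact orderOf_dvd_natCard _
    have h2 : p ^ k ∣ p * m := by rw [← hk, ← hH]; exact Subgroup.card_subgroup_dvd_card _
    have h3 : k = 1 := by
      rcases Nat.lt_trichotomy k 1 with h | h | h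
      · have : k = 0 := by omega
        rw [this, pow_zero] at h1
        exact absurd (Nat.le_of_dvd one_pos h1) (by have := hp.out.one_lt; omega)
      · exact h
      · exfalso
        apply hpm
        have h4 : p ^ 2 ∣ p * m := (pow_dvd_pow p h).trans h2
        rw [pow_two] at h4
        exact Nat.dvd_of_mul_dvd_mul_left hp.out.pos h4
    rw [hk, h3, pow_one]
  have hdiv : Nat.card (C ⧸ Subgroup.zpowers z) / p = m := by
    rw [hH, Nat.mul_div_cancel_left _ hp.out.pos]
  have hlt : m % p < s.card := by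
    apply hcard
    have h1 := card_fus_eq hHf hyb (c := 1) (by rw [hcb, mul_one]) (e := m % p) (by
      intro k hk h
      rw [mul_one, hdiv, Nat.mod_eq_of_lt hk] at h
      exact h)
    exact Dvd.intro _ h1.2
  refine imc_of_cent_quot hx hG (QuotientGroup.mk' (Subgroup.zpowers z))
    (QuotientGroup.mk'_surjective _) ?_ (hasDZ_of_orders hHf hyb hcb s ?_ (by rw [hdiv]; exact hlt))
  · rw [← hCdef, hHf, hC, Nat.factorization_mul (pow_ne_zero _ hp.out.ne_zero) hm,
      Finsupp.add_apply, Nat.factorization_eq_zero_of_not_dvd hpm, hp.out.factorization_pow,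
      Finsupp.single_eq_same]
  · intro n hn
    obtain ⟨h1, g, hg, hgn⟩ := hs n hn
    refine ⟨h1, QuotientGroup.mk ⟨g, Subgroup.mem_centralizer_singleton_iff.2 hg⟩, ?_⟩
    set g' : C := ⟨g, Subgroup.mem_centralizer_singleton_iff.2 hg⟩ with hg'
    have hgo : orderOf g' = n := by rw [hg', Subgroup.orderOf_mk, hgn]
    have h2 : orderOf (QuotientGroup.mk g' : C ⧸ Subgroup.zpowers z) ∣ n := by
      rw [← hgo]
      exact orderOf_map_dvd (QuotientGroup.mk' (Subgroup.zpowers z)) g'
    apply Nat.dvd_antisymm h2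
    set o := orderOf (QuotientGroup.mk g' : C ⧸ Subgroup.zpowers z) with ho
    have h3 : g' ^ o ∈ Subgroup.zpowers z := by
      rw [← QuotientGroup.eq_one_iff]
      have : (QuotientGroup.mk (g' ^ o) : C ⧸ Subgroup.zpowers z) =
        (QuotientGroup.mk g' : C ⧸ Subgroup.zpowers z) ^ o := rfl
      rw [this, ho, pow_orderOf_eq_one]
    have h4 : (g' ^ o) ^ p = 1 := by
      obtain ⟨k, hk⟩ := h3
      rw [← hk]
      show (z ^ k) ^ p = 1
      rw [← zpow_natCast, ← zpow_mul, mul_comm, zpow_mul, zpow_natCast, ← hzo, pow_orderOf_eq_one,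
        one_zpow]
    rw [← pow_mul] at h4
    have h5 := orderOf_dvd_of_pow_eq_one h4
    rw [hgo] at h5
    have hcop : Nat.Coprime n p := by
      rw [Nat.coprime_comm, Nat.Prime.coprime_iff_not_dvd hp.out]; exact h1
    exact hcop.dvd_of_dvd_mul_right h5

end

section rank3

open Cfsg.Agent.H690.Spor.RankThree

variable {G : Type u} {X : Type v} [Group G] [MulAction G X] [Finite G] {R : X → X → Prop} {k l : ℕ}

/-- rank three permutation characters -/
theorem imc_of_r3 (h : R3 G X R k l) {p : ℕ} [hp : Fact p.Prime] {d : ℕ} (hd : (Nat.card G).factorization p ≤ d + 1)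
    (hd1 : 1 ≤ d)
    (hfg : ∀ f g D : ℕ, f + g = k + l → f * g * D = (1 + k + l) * k * l → (f ≠ g → IsSquare D) →
      p ^ d ∣ f ∨ p ^ d ∣ g) : IMC p G := by
  classical
  have hX : Finite X := by
    apply Nat.finite_of_card_ne_zero
    rw [h.cardn]
    omega
  have := Fintype.ofFinite X
  obtain ⟨χ₁, χ₂, f, g, D, h1, h2, -, h3, h4, h5⟩ := h.frame
  have key : ∀ (χ : IrrCharacter G) (f : ℕ), (χ : G → ℂ) 1 = f → p ^ d ∣ f → IMC p G := by
    intro χ f hf hpf
    have e : charDegree (χ : G → ℂ) = f := H670.PSing.charDegree_eq_of hf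
    refine imc_of_pow χ ?_ ?_
    · rw [e]; exact (dvd_pow_self p (by omega)).trans hpf
    · rw [e]; exact (pow_dvd_pow p (by omega)).trans hpf
  rcases hfg f g D h3 h4 h5 with h6 | h6
  · exact key χ₁ f h1 h6
  · exact key χ₂ g h2 h6

end rank3

end Cfsg.Agent.H84.IMC
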